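import Groth.Agent.CohenLib.FlatUnramified
import Groth.Agent.CommAlgDim.GlobalDim
import Groth.Agent.AlgSpLib.ReducedStalk
import Groth.Agent.SweepSix.FieldsRed

/-!
# Local rings over the closed point after completing the base
-/

set_option backward.isDefEq.respectTransparency false
set_option backward.isDefEq.respectTransparency.types false

universe u

open CategoryTheory Limits AlgebraicGeometry IsLocalRing TensorProduct

namespace CplFibreLib

/-- Congruent modulo every power of the maximal ideals. -/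
def CongrPows : ∀ {R S : Type u} [CommRing R] [CommRing S], (R →+* S) → Prop :=
  fun {R S} _ _ φ => ∃ (_ : IsLocalRing R) (_ : IsLocalRing S),
    (maximalIdeal R).map φ = maximalIdeal S ∧ (∀ s, ∃ r, s - φ r ∈ maximalIdeal S) ∧
      ∀ n, (maximalIdeal S ^ n).comap φ ≤ maximalIdeal R ^ n

theorem congrPows_respectsIso : RingHom.RespectsIso CongrPows.{u} := by
  constructor
  · rintro R S T _ _ _ φ e ⟨_, _, h1, h2, h3⟩
    haveI : IsLocalRing T := e.isLocalRing
    have he : (maximalIdeal S).map e.toRingHom = maximalIdeal T := by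
      refine (IsLocalRing.eq_maximalIdeal ?_)
      exact Ideal.map_isMaximal_of_equiv e
    refine ⟨inferInstance, inferInstance, by rw [← Ideal.map_map, h1, he], fun t => ?_, fun n r hr => h3 n ?_⟩
    · obtain ⟨r, hr⟩ := h2 (e.symm t)
      refine ⟨r, ?_⟩
      rw [← he]
      have := Ideal.mem_map_of_mem e.toRingHom hr
      simpa using this
    · rw [Ideal.mem_comap] at hr ⊢
      rw [← he, ← Ideal.map_pow] at hr
      obtain ⟨s, hs, hse⟩ := (Ideal.mem_map_iff_of_surjective e.toRingHom e.surjective).1 hr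
      exact e.injective hse ▸ hs
  · rintro R S T _ _ _ φ e ⟨_, _, h1, h2, h3⟩
    haveI : IsLocalRing R := e.symm.isLocalRing
    have he : (maximalIdeal R).map e.toRingHom = maximalIdeal S := by
      refine (IsLocalRing.eq_maximalIdeal ?_)
      exact Ideal.map_isMaximal_of_equiv e
    refine ⟨inferInstance, inferInstance, by rw [← Ideal.map_map, he, h1], fun t => ?_, fun n r hr => ?_⟩
    · obtain ⟨s, hs⟩ := h2 t
      exact ⟨e.symm s, by simpa using hs⟩
    · have h4 : e.toRingHom r ∈ maximalIdeal S ^ n := h3 n hr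
      rw [← he, ← Ideal.map_pow] at h4
      obtain ⟨s, hs, hse⟩ := (Ideal.mem_map_iff_of_surjective e.toRingHom e.surjective).1 h4
      exact e.injective hse ▸ hs

/-- The key computation. -/
theorem congrPows_localRingHom (A R B : Type u) [CommRing A] [IsLocalRing A] [CommRing R] [CommRing B]
    [Algebra A R] [Algebra A B] (hB : ∀ b : B, ∃ a : A, b - algebraMap A B a ∈ (maximalIdeal A).map (algebraMap A B))
    (ψ : ∀ n, B →ₐ[A] A ⧸ maximalIdeal A ^ n)
    (Q : Ideal (R ⊗[A] B)) [Q.IsPrime]
    (hQ : maximalIdeal A ≤ (Q.comap (Algebra.TensorProduct.includeLeftRingHom : R →+* R ⊗[A] B)).comap (algebraMap A R)) :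
    CongrPows (Localization.localRingHom (Q.comap (Algebra.TensorProduct.includeLeftRingHom : R →+* R ⊗[A] B)) Q
      Algebra.TensorProduct.includeLeftRingHom rfl) := by
  let ι : R →+* R ⊗[A] B := Algebra.TensorProduct.includeLeftRingHom
  let p := Q.comap ι
  let RP := Localization.AtPrime p
  let SQ := Localization.AtPrime Q
  let φ : RP →+* SQ := Localization.localRingHom p Q ι rfl
  have hdec : ∀ z : R ⊗[A] B, ∃ r : R, z - ι r ∈ p.map ι := fun z => by
    induction z using TensorProduct.induction_on with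
    | zero => exact ⟨0, by simp⟩
    | add x y hx hy =>
      obtain ⟨r, hr⟩ := hx
      obtain ⟨r', hr'⟩ := hy
      exact ⟨r + r', by rw [map_add, add_sub_add_comm]; exact add_mem hr hr'⟩
    | tmul r b =>
      obtain ⟨a, ha⟩ := hB b
      refine ⟨a • r, ?_⟩
      have h1 : r ⊗ₜ[A] b - ι (a • r) = r ⊗ₜ[A] (b - algebraMap A B a) := by
        show r ⊗ₜ[A] b - (a • r) ⊗ₜ[A] (1 : B) = _
        rw [tmul_sub, smul_tmul, Algebra.smul_def, mul_one]
      rw [h1]
      have h2 : (maximalIdeal A).map (algebraMap A B) ≤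
          (p.map ι).comap (Algebra.TensorProduct.includeRight : B →ₐ[A] R ⊗[A] B).toRingHom := by
        rw [Ideal.map_le_iff_le_comap]
        intro a ha
        show (Algebra.TensorProduct.includeRight : B →ₐ[A] R ⊗[A] B) (algebraMap A B a) ∈ p.map ι
        rw [AlgHom.commutes, show algebraMap A (R ⊗[A] B) a = ι (algebraMap A R a) from
          (Algebra.TensorProduct.includeLeft.commutes a).symm]
        exact Ideal.mem_map_of_mem ι (hQ ha)
      have h3 := Ideal.mul_mem_left (p.map ι) (r ⊗ₜ[A] (1 : B)) (h2 ha)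
      simpa using h3
  have hQmap : Q = p.map ι := le_antisymm (fun z hz => by
    obtain ⟨r, hr⟩ := hdec z
    have hrp : r ∈ p := by
      have := Ideal.sub_mem Q hz (Ideal.map_comap_le hr)
      simpa [p] using this
    simpa using add_mem hr (Ideal.mem_map_of_mem ι hrp)) Ideal.map_comap_le
  have hmax : (maximalIdeal RP).map φ = maximalIdeal SQ := by
    rw [← Localization.AtPrime.map_eq_maximalIdeal, Ideal.map_map,
      show φ.comp (algebraMap R RP) = (algebraMap (R ⊗[A] B) SQ).comp ι from
        RingHom.ext fun r => Localization.localRingHom_to_map p Q ι rfl r,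
      ← Ideal.map_map, ← hQmap, Localization.AtPrime.map_eq_maximalIdeal]
  refine ⟨inferInstance, inferInstance, hmax, fun s => ?_, fun n => ?_⟩
  · obtain ⟨⟨z, t, ht⟩, hzt⟩ := IsLocalization.surj Q.primeCompl s
    obtain ⟨r, hr⟩ := hdec z
    obtain ⟨r', hr'⟩ := hdec t
    rw [← hQmap] at hr hr'
    have hrp' : r' ∉ p := fun h => ht (by simpa using add_mem hr' (show ι r' ∈ Q from h))
    let u : RP := IsLocalization.mk' RP r (⟨r', hrp'⟩ : p.primeCompl)
    refine ⟨u, ?_⟩
    have hu : φ u * algebraMap (R ⊗[A] B) SQ (ι r') = algebraMap (R ⊗[A] B) SQ (ι r) := by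
      rw [← Localization.localRingHom_to_map p Q ι rfl r', ← Localization.localRingHom_to_map p Q ι rfl r, ← map_mul,
        IsLocalization.mk'_spec]
    have hunit : IsUnit (algebraMap (R ⊗[A] B) SQ (ι r')) :=
      IsLocalization.map_units SQ (⟨ι r', hrp'⟩ : Q.primeCompl)
    refine (Ideal.mul_unit_mem_iff_mem (maximalIdeal SQ) hunit).1 ?_
    have hm : ∀ w ∈ Q, algebraMap (R ⊗[A] B) SQ w ∈ maximalIdeal SQ := fun w hw =>
      (IsLocalization.AtPrime.to_map_mem_maximal_iff SQ Q w).2 hw
    have hzt' : s * algebraMap (R ⊗[A] B) SQ t = algebraMap (R ⊗[A] B) SQ z := hzt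
    rw [show (s - φ u) * algebraMap (R ⊗[A] B) SQ (ι r') =
        algebraMap (R ⊗[A] B) SQ (z - ι r) - s * algebraMap (R ⊗[A] B) SQ (t - ι r') by
      rw [sub_mul, hu, map_sub, map_sub, mul_sub, hzt']; ring]
    exact sub_mem (hm _ hr) (Ideal.mul_mem_left _ _ (hm _ hr'))
  · rcases n with _ | n
    · simp
    let M := maximalIdeal RP ^ (n + 1)
    have hAM : ∀ a ∈ maximalIdeal A ^ (n + 1), algebraMap A (RP ⧸ M) a = 0 := fun a ha => by
      rw [IsScalarTower.algebraMap_apply A RP (RP ⧸ M)]
      refine Ideal.Quotient.eq_zero_iff_mem.2 ?_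
      have h1 : (maximalIdeal A).map (algebraMap A RP) ≤ maximalIdeal RP := by
        rw [Ideal.map_le_iff_le_comap]
        intro a ha
        rw [Ideal.mem_comap, IsScalarTower.algebraMap_apply A R RP, IsLocalization.AtPrime.to_map_mem_maximal_iff RP p]
        exact hQ ha
      have h2 := Ideal.pow_right_mono h1 (n + 1)
      rw [← Ideal.map_pow] at h2
      exact h2 (Ideal.mem_map_of_mem _ ha)
    let χ : B →ₐ[A] RP ⧸ M := (Ideal.Quotient.liftₐ _ (Algebra.ofId A (RP ⧸ M)) hAM).comp (ψ (n + 1))
    let g₀ : R ⊗[A] B →ₐ[A] RP ⧸ M :=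
      Algebra.TensorProduct.lift (IsScalarTower.toAlgHom A R (RP ⧸ M)) χ fun _ _ => .all _ _
    haveI : Nontrivial (RP ⧸ M) := Ideal.Quotient.nontrivial_iff.2 fun h => (maximalIdeal.isMaximal RP).ne_top
      (top_le_iff.1 (h ▸ Ideal.pow_le_self n.succ_ne_zero))
    haveI : IsLocalRing (RP ⧸ M) := .of_surjective' _ Ideal.Quotient.mk_surjective
    have hgι : ∀ r, g₀ (ι r) = Ideal.Quotient.mk M (algebraMap R RP r) := fun r => by
      show g₀ (r ⊗ₜ[A] (1 : B)) = _
      rw [Algebra.TensorProduct.lift_tmul, map_one, mul_one]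
      rfl
    have hgQ : ∀ w ∈ Q, g₀ w ∈ maximalIdeal (RP ⧸ M) := by
      intro w hw
      rw [hQmap] at hw
      induction hw using Submodule.span_induction with
      | mem w hw =>
        obtain ⟨r, hr, rfl⟩ := hw
        rw [hgι]
        haveI : IsLocalHom (Ideal.Quotient.mk M) := IsLocalHom.of_surjective _ Ideal.Quotient.mk_surjective
        refine map_nonunit (Ideal.Quotient.mk M) _ ?_
        exact (IsLocalization.AtPrime.to_map_mem_maximal_iff RP p r).2 hr
      | zero => simp
      | add x y _ _ hx hy => rw [map_add]; exact add_mem hx hy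
      | smul c x _ hx => rw [smul_eq_mul, map_mul]; exact Ideal.mul_mem_left _ _ hx
    have hunit : ∀ w : Q.primeCompl, IsUnit (g₀ (w : R ⊗[A] B)) := by
      rintro ⟨w, hw⟩
      obtain ⟨r, hr⟩ := hdec w
      rw [← hQmap] at hr
      have hrp : r ∉ p := fun h => hw (by simpa using add_mem hr (show ι r ∈ Q from h))
      refine IsLocalRing.notMem_maximalIdeal.1 fun hmem => ?_
      have h1 := sub_mem hmem (hgQ _ hr)
      rw [map_sub, sub_sub_cancel, hgι] at h1
      exact IsLocalRing.notMem_maximalIdeal.2 ((IsLocalization.map_units RP (⟨r, hrp⟩ : p.primeCompl)).map _) h1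
    let g : SQ →+* RP ⧸ M := IsLocalization.lift (g := g₀.toRingHom) hunit
    have hgφ : g.comp φ = Ideal.Quotient.mk M := IsLocalization.ringHom_ext p.primeCompl (RingHom.ext fun r => by
      show g (φ (algebraMap R RP r)) = _
      rw [show φ (algebraMap R RP r) = algebraMap _ SQ (ι r) from Localization.localRingHom_to_map p Q ι rfl r,
        IsLocalization.lift_eq]
      exact hgι r)
    intro x hx
    rw [← Ideal.Quotient.eq_zero_iff_mem, ← hgφ, RingHom.comp_apply]
    have h1 := Ideal.mem_map_of_mem g (show φ x ∈ maximalIdeal SQ ^ (n + 1) from hx)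
    rw [← hmax, ← Ideal.map_pow, Ideal.map_map, hgφ, Ideal.map_quotient_self] at h1
    exact Ideal.mem_bot.1 h1

theorem congrPows_stalkMap_congr {Y Z : Scheme.{u}} (g : Y ⟶ Z) {a b : Y} (h : a = b)
    (ha : CongrPows (g.stalkMap a).hom) : CongrPows (g.stalkMap b).hom := by
  subst h; exact ha

/-- The stalk map at a point over the closed point of a completed base. -/
theorem congrPows_stalkMap (A : Type u) [CommRing A] [IsLocalRing A] (hm : (maximalIdeal A).FG) {X : Scheme.{u}}
    (f : X ⟶ Spec (CommRingCat.of A))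
    (q : ↥(pullback f (Spec.map (CommRingCat.ofHom (algebraMap A (AdicCompletion (maximalIdeal A) A))))))
    (hq : f (pullback.fst f _ q) = closedPoint A) :
    CongrPows ((pullback.fst f (Spec.map (CommRingCat.ofHom (algebraMap A (AdicCompletion (maximalIdeal A) A))))).stalkMap q).hom := by
  let B := AdicCompletion (maximalIdeal A) A
  let sB := Spec.map (CommRingCat.ofHom (algebraMap A B))
  let x := pullback.fst f sB q
  let R := X.presheaf.stalk x
  obtain ⟨φ₀, hφ₀⟩ := Spec.map_surjective (X.fromSpecStalk x ≫ f)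
  letI : Algebra A R := φ₀.hom.toAlgebra
  let sR : Spec (CommRingCat.of R) ⟶ Spec (CommRingCat.of A) := Spec.map (CommRingCat.ofHom (algebraMap A R))
  have hR : X.fromSpecStalk x ≫ f = sR := hφ₀.symm
  haveI := AlgSpLib.flat_fromSpecStalk x
  let m : pullback sR sB ⟶ pullback f sB :=
    pullback.map _ _ _ _ (X.fromSpecStalk x) (𝟙 _) (𝟙 _) (by simp [hR]) (by simp)
  have sq : IsPullback m (pullback.fst sR sB) (pullback.fst f sB) (X.fromSpecStalk x) := by
    refine (IsPullback.of_bot (v₂₁ := pullback.snd f sB) (h₃₁ := sB) (v₂₂ := f) ?_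
      (pullback.lift_fst _ _ _).symm (IsPullback.of_hasPullback f sB)).flip
    rw [show m ≫ pullback.snd f sB = pullback.snd sR sB from
      (pullback.lift_snd _ _ _).trans (Category.comp_id _), hR]
    exact IsPullback.of_hasPullback sR sB
  haveI : Flat m := MorphismProperty.of_isPullback sq.flip ‹_›
  haveI : IsPreimmersion m := MorphismProperty.of_isPullback sq.flip inferInstance
  obtain ⟨v, hv, -⟩ := Scheme.exists_preimage_of_isPullback sq q (closedPoint R)
    (Scheme.fromSpecStalk_closedPoint (X := X) (x := x)).symm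
  let e : pullback sR sB ≅ Spec (CommRingCat.of (R ⊗[A] B)) := pullbackSpecIso A R B
  let w := e.hom v
  have hw : (e.inv ≫ m) w = q := by
    show (e.inv ≫ m) (e.hom v) = q
    rw [← Scheme.Hom.comp_apply, e.hom_inv_id_assoc, hv]
  have hcomp : (e.inv ≫ m) ≫ pullback.fst f sB =
      Spec.map (CommRingCat.ofHom (Algebra.TensorProduct.includeLeftRingHom : R →+* R ⊗[A] B)) ≫ X.fromSpecStalk x := by
    rw [Category.assoc, show m ≫ pullback.fst f sB = pullback.fst sR sB ≫ X.fromSpecStalk x from
      pullback.lift_fst _ _ _, ← Category.assoc]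
    erw [pullbackSpecIso_inv_fst]
  have key : CongrPows (((e.inv ≫ m) ≫ pullback.fst f sB).stalkMap w).hom := by
    rw [hcomp, Scheme.Hom.stalkMap_comp, CommRingCat.hom_comp]
    haveI : IsIso ((X.fromSpecStalk x).stalkMap
        (Spec.map (CommRingCat.ofHom (Algebra.TensorProduct.includeLeftRingHom : R →+* R ⊗[A] B)) w)) :=
      (ConcreteCategory.isIso_iff_bijective _).2 (SweepSix.FieldsRed.isIso_stalkMap _ _)
    rw [congrPows_respectsIso.cancel_left_isIso,
      congrPows_respectsIso.arrow_mk_iso_iff (Scheme.arrowStalkMapSpecIso _ _)]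
    refine congrPows_localRingHom A R B (fun b => ?_) (fun n => AdicCompletion.evalₐ (maximalIdeal A) n) _ ?_
    · obtain ⟨a, ha⟩ := Ideal.Quotient.mk_surjective (AdicCompletion.evalOneₐ (maximalIdeal A) b)
      refine ⟨a, ?_⟩
      rw [← AdicCompletion.ker_evalOneₐ_eq_map (maximalIdeal A) hm, RingHom.mem_ker]
      show AdicCompletion.evalOneₐ (maximalIdeal A) (b - algebraMap A B a) = 0
      rw [map_sub, AlgHom.commutes, ← ha]
      exact sub_self _
    · intro a ha
      have hpt : (Spec.map (CommRingCat.ofHom (algebraMap A R))) (Spec.map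
          (CommRingCat.ofHom (Algebra.TensorProduct.includeLeftRingHom : R →+* R ⊗[A] B)) w) = closedPoint A := by
        rw [show Spec.map (CommRingCat.ofHom (algebraMap A R)) = X.fromSpecStalk x ≫ f from hR.symm]
        rw [← Scheme.Hom.comp_apply, ← Category.assoc, ← hcomp]
        show f (pullback.fst f sB ((e.inv ≫ m) w)) = _
        rw [hw]
        exact hq
      exact (congrArg (fun P : PrimeSpectrum A => a ∈ P.asIdeal) hpt).mpr ha
  refine congrPows_stalkMap_congr _ hw ?_
  rw [Scheme.Hom.stalkMap_comp, CommRingCat.hom_comp] at key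
  haveI : IsIso ((e.inv ≫ m).stalkMap w) :=
    (ConcreteCategory.isIso_iff_bijective _).2 (SweepSix.FieldsRed.isIso_stalkMap _ _)
  exact (congrPows_respectsIso.cancel_right_isIso _ _).1 key

/-- A residually surjective map with `m_R S = m_S` is surjective modulo every power of `m_S`. -/
theorem exists_sub_mem_pow {R S : Type u} [CommRing R] [CommRing S] [IsLocalRing R] [IsLocalRing S] (φ : R →+* S)
    (h1 : (maximalIdeal R).map φ = maximalIdeal S) (h2 : ∀ s, ∃ r, s - φ r ∈ maximalIdeal S) (n : ℕ) :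
    ∀ s, ∃ r, s - φ r ∈ maximalIdeal S ^ n := by
  induction n with
  | zero => exact fun s => ⟨0, by simp⟩
  | succ n ih =>
    intro s
    obtain ⟨r, hr⟩ := ih s
    suffices ∀ e ∈ (maximalIdeal R ^ n).map φ, ∃ r' ∈ maximalIdeal R ^ n, e - φ r' ∈ maximalIdeal S ^ (n + 1) by
      obtain ⟨r', -, hr'⟩ := this (s - φ r) (by rw [Ideal.map_pow, h1]; exact hr)
      exact ⟨r + r', by rwa [map_add, ← sub_sub]⟩
    intro e he
    induction he using Submodule.span_induction with
    | mem e he =>
      obtain ⟨a, ha, rfl⟩ := he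
      exact ⟨a, ha, by simp⟩
    | zero => exact ⟨0, zero_mem _, by simp⟩
    | add x y _ _ hx hy =>
      obtain ⟨a, ha, ha'⟩ := hx
      obtain ⟨b, hb, hb'⟩ := hy
      exact ⟨a + b, add_mem ha hb, by rw [map_add, add_sub_add_comm]; exact add_mem ha' hb'⟩
    | smul c x _ hx =>
      obtain ⟨a, ha, ha'⟩ := hx
      obtain ⟨c₀, hc⟩ := h2 c
      refine ⟨c₀ * a, Ideal.mul_mem_left _ _ ha, ?_⟩
      have h3 : φ a ∈ maximalIdeal S ^ n := by
        rw [← h1, ← Ideal.map_pow]
        exact Ideal.mem_map_of_mem φ ha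
      rw [smul_eq_mul, map_mul, show c * x - φ c₀ * φ a = c * (x - φ a) + (c - φ c₀) * φ a by ring]
      refine add_mem (Ideal.mul_mem_left _ _ ha') ?_
      rw [pow_succ']
      exact Ideal.mul_mem_mul hc h3

end CplFibreLib
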